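import Cfsg.Agent.H802.TE.Defs

/-!
# S5261, part E, `StM3d` (helper807)

`p = 2`, `Z3 ≤ E` mixed, `x.x1 ∈ {0, a}` on `E`, `y ∈ E` with `y.x1 = a`, `y.x6 = 0`: then `Z4 ≤ E`.
Proof: suppose not. `F a ≤ C := x5(E ∩ Z4)` (`StCh`), so `Q1` normalizes `E`; (P2w) for `A = B = Q1`, `X = X' = E ∩ Q1`
gives `|Q1 : Q1 ∩ E| = 2`, so `|K : C| = 2` and `x6(E ∩ Q1) = F`. `N = {n : F n ≤ C}` has order at least `q²`. (P2w) for
`A = {x6 = 0, x1 ∈ N}`, `X = {x ∈ Z4 : x5 ∈ N}`, `B = Q1`, `X' = E ∩ Q1` gives `|N|³ ≤ 2 q⁴`: contradiction.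
-/

set_option autoImplicit false
set_option linter.unusedSectionVars false

namespace Cfsg.Agent.H807.TE

open Cfsg Cfsg.FusionSystem Cfsg.Agent.H756.PU
open Cfsg.Agent.H765.D3 Cfsg.Agent.H765.D3.Sy Cfsg.Agent.H802.TE
open Cfsg.Agent.Hex.Defs (sh cr nm tr)
open scoped commutatorElement

universe u

section Gen

theorem le_norm {Ω : Type*} [Group Ω] {A E : Subgroup Ω} (h : Com A E E) : A ≤ normalizerIn ⊤ E := by
  intro x hx
  refine ⟨Subgroup.mem_top x, ?_⟩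
  show x ∈ Subgroup.normalizer (E : Set Ω)
  rw [Subgroup.mem_normalizer_iff]
  intro e
  constructor
  · intro he
    have h1 := mul_mem (h x hx e he) he
    rwa [inv_mul_cancel_right] at h1
  · intro he
    have h1 := mul_mem (h x⁻¹ (inv_mem hx) _ he) he
    rw [inv_mul_cancel_right, inv_inv] at h1
    have h2 : x⁻¹ * (x * e * x⁻¹) * x = e := by group
    rwa [h2] at h1

/-- the index of a subgroup without "two cosets" -/
theorem relIndex_le_two {Ω : Type*} [Group Ω] {H L : Subgroup Ω} [Finite L] (h : ∀ x ∈ L, ∀ y ∈ L, x ∉ H → y ∉ H → x * y ∈ H) :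
    H.relIndex L ≤ 2 := by
  refine Nat.le_of_dvd two_pos ?_
  rw [Subgroup.relIndex_dvd_two_iff]
  by_cases hL : L ≤ H
  · exact ⟨1, one_mem _, fun b hb => Or.inr (hL hb)⟩
  · obtain ⟨a, ha, haH⟩ := SetLike.not_le_iff_exists.1 hL
    refine ⟨a, ha, fun b hb => ?_⟩
    by_cases hbH : b ∈ H
    · exact Or.inr hbH
    · exact Or.inl (h b hb a ha hbH haH)

theorem mul_mem_of_relIndex {Ω : Type*} [Group Ω] {H L : Subgroup Ω} [Finite L] (h : H.relIndex L ≤ 2) {x y : Ω} (hx : x ∈ L)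
    (hy : y ∈ L) (hxH : x ∉ H) (hyH : y ∉ H) : x * y ∈ H := by
  have h0 : H.relIndex L ≠ 0 := by
    rw [Subgroup.relIndex]
    exact Subgroup.index_ne_zero_of_finite
  have h1 : H.relIndex L ≠ 1 := fun h1 => hxH (Subgroup.relIndex_eq_one.1 h1 hx)
  have h2 : (H.subgroupOf L).index = 2 := by
    have : H.relIndex L = 2 := by omega
    exact this
  have h3 := (Subgroup.mul_mem_iff_of_index_two h2 (a := ⟨x, hx⟩) (b := ⟨y, hy⟩)).2
    (iff_of_false (fun h => hxH h) (fun h => hyH h))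
  exact h3

end Gen

section Field

variable {F K : Type*} [Field F] [Field K] [Algebra F K]

/-- a subgroup `C` of index at most two of a vector space contains a subspace of codimension at most one -/
theorem card_le_mul [Finite F] [Finite K] (C : AddSubgroup K) (hC : ∀ x y, x ∉ C → y ∉ C → x + y ∈ C)
    (N : Submodule F K) (hN : ∀ n : K, n ∈ N ↔ ∀ u : F, u • n ∈ C) : Nat.card K ≤ Nat.card N * Nat.card F := by
  classical
  let χ : AddChar K ℂ :=
    { toFun := fun x => if x ∈ C then 1 else -1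
      map_zero_eq_one' := by simp
      map_add_eq_mul' := fun x y => by
        by_cases hx : x ∈ C
        · by_cases hy : y ∈ C
          · simp [hx, hy, add_mem hx hy]
          · have : x + y ∉ C := fun h => hy (by simpa using add_mem (neg_mem hx) h)
            simp [hx, hy, this]
        · by_cases hy : y ∈ C
          · have : x + y ∉ C := fun h => hx (by simpa using add_mem h (neg_mem hy))
            simp [hx, hy, this]
          · simp [hx, hy, hC x y hx hy] }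
  have hχ : ∀ x, χ x = 1 → x ∈ C := by
    intro x hx
    by_contra hxC
    have h1 : (if x ∈ C then (1 : ℂ) else -1) = 1 := hx
    rw [if_neg hxC] at h1
    norm_num at h1
  let ψ : Multiplicative K →* AddChar F ℂ :=
    { toFun := fun n =>
        { toFun := fun u => χ (u • n.toAdd)
          map_zero_eq_one' := by simp
          map_add_eq_mul' := fun u v => by rw [add_smul, AddChar.map_add_eq_mul] }
      map_one' := by
        ext u
        show χ (u • (0 : K)) = 1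
        rw [smul_zero, AddChar.map_zero_eq_one]
      map_mul' := fun n m => by
        ext u
        show χ (u • (n.toAdd + m.toAdd)) = χ (u • n.toAdd) * χ (u • m.toAdd)
        rw [smul_add, AddChar.map_add_eq_mul] }
  have h1 : Nat.card ψ.ker * ψ.ker.index = Nat.card K := by
    rw [Subgroup.card_mul_index]; rfl
  have h2 : ψ.ker.index ≤ Nat.card F := by
    rw [Subgroup.index_ker]
    have : Fintype F := Fintype.ofFinite F
    have h3 : Nat.card (AddChar F ℂ) = Nat.card F := by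
      rw [Nat.card_eq_fintype_card, Nat.card_eq_fintype_card, AddChar.card_eq]
    rw [← h3]
    exact Nat.card_le_card_of_injective _ Subtype.val_injective
  have h3 : Nat.card ψ.ker ≤ Nat.card N := by
    refine Nat.card_le_card_of_injective (fun x : ψ.ker => (⟨x.1.toAdd, ?_⟩ : N)) ?_
    · rw [hN]
      intro u
      have := congrArg (fun ξ : AddChar F ℂ => ξ u) (MonoidHom.mem_ker.1 x.2)
      exact hχ _ this
    · intro x y h
      exact Subtype.ext (congrArg (fun z : N => Multiplicative.ofAdd (z : K)) h)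
  calc Nat.card K = Nat.card ψ.ker * ψ.ker.index := h1.symm
    _ ≤ Nat.card N * Nat.card F := Nat.mul_le_mul h3 h2

variable (φ : K ≃ₐ[F] K) [Cub φ]

include φ

theorem finrank_three [Finite K] [Finite F] : Module.finrank F K = 3 := by
  have hfd : FiniteDimensional F K := Module.Finite.of_finite
  have h3 : φ ^ 3 = 1 := by
    ext t
    show φ (φ (φ t)) = t
    exact phi3 φ t
  have h1 : φ ≠ 1 := fun h => by
    obtain ⟨t, ht⟩ := Cub.ne (φ := φ)
    exact ht (by rw [h]; rfl)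
  have h2 : orderOf φ = 3 := orderOf_eq_prime h3 h1
  have h4 := IntermediateField.finrank_fixedField_eq_card (Subgroup.zpowers φ)
  rw [Nat.card_zpowers, h2] at h4
  have h5 : IntermediateField.fixedField (Subgroup.zpowers φ) = ⊥ := by
    rw [eq_bot_iff]
    intro t ht
    rw [IntermediateField.mem_fixedField_iff] at ht
    have := ht φ (Subgroup.mem_zpowers φ)
    obtain ⟨s, hs⟩ := exists_coe φ this
    rw [IntermediateField.mem_bot]
    exact ⟨s, hs⟩
  rw [h5] at h4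
  rwa [IntermediateField.finrank_bot'] at h4

theorem card_K [Finite K] [Finite F] : Nat.card K = Nat.card F ^ 3 := by
  have : Fintype K := Fintype.ofFinite K
  have : Fintype F := Fintype.ofFinite F
  rw [Nat.card_eq_fintype_card, Nat.card_eq_fintype_card, Module.card_eq_pow_finrank (K := F) (V := K), finrank_three φ]

end Field

section Box

variable {F K : Type*} [Field F] [Field K] [Algebra F K] {φ : K ≃ₐ[F] K} [Cub φ]

/-- `{x ∈ Z4 | x5 ∈ D}` -/
def ZD (φ : K ≃ₐ[F] K) [Cub φ] (D : AddSubgroup K) : Subgroup (Sy φ) where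
  carrier := {x | x.x1 = 0 ∧ x.x6 = 0 ∧ x.x5 ∈ D}
  one_mem' := ⟨rfl, rfl, zero_mem D⟩
  mul_mem' {x y} hx hy := by
    simp only [Set.mem_ofPred_eq] at hx hy ⊢
    rw [mul_x1, mul_x6, mul_x5, hx.1, hy.1, hx.2.1, hy.2.1, smul_zero, add_zero, add_zero, add_zero]
    exact ⟨rfl, rfl, add_mem hx.2.2 hy.2.2⟩
  inv_mem' {x} hx := by
    simp only [Set.mem_ofPred_eq] at hx ⊢
    rw [inv_x1, inv_x6, inv_x5, hx.1, hx.2.1, smul_zero, neg_zero, neg_zero, add_zero]
    exact ⟨rfl, rfl, neg_mem hx.2.2⟩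

/-- `{x | x6 = 0, x1 ∈ N}` -/
def AN (φ : K ≃ₐ[F] K) [Cub φ] (N : AddSubgroup K) : Subgroup (Sy φ) where
  carrier := {x | x.x6 = 0 ∧ x.x1 ∈ N}
  one_mem' := ⟨rfl, zero_mem N⟩
  mul_mem' {x y} hx hy := by
    simp only [Set.mem_ofPred_eq] at hx hy ⊢
    rw [mul_x1, mul_x6, hx.1, hy.1, add_zero]
    exact ⟨rfl, add_mem hx.2 hy.2⟩
  inv_mem' {x} hx := by
    simp only [Set.mem_ofPred_eq] at hx ⊢
    rw [inv_x1, inv_x6, hx.1, neg_zero]
    exact ⟨rfl, neg_mem hx.2⟩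

theorem mem_ZD {D : AddSubgroup K} {x : Sy φ} : x ∈ ZD φ D ↔ x.x1 = 0 ∧ x.x6 = 0 ∧ x.x5 ∈ D := Iff.rfl
theorem mem_AN {N : AddSubgroup K} {x : Sy φ} : x ∈ AN φ N ↔ x.x6 = 0 ∧ x.x1 ∈ N := Iff.rfl

theorem card_ZD (D : AddSubgroup K) : Nat.card (ZD φ D) = Nat.card D * (Nat.card K * Nat.card F ^ 2) := by
  rw [Nat.card_congr (β := D × K × F × F) ⟨fun x => (⟨x.1.x5, x.2.2.2⟩, x.1.x3, x.1.x2, x.1.x4),
    fun w => ⟨⟨0, 0, w.1, w.2.1, w.2.2.1, w.2.2.2⟩, rfl, rfl, w.1.2⟩,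
    fun x => ?_, fun w => rfl⟩, Nat.card_prod, Nat.card_prod, Nat.card_prod]
  · ring
  obtain ⟨x, h1, h2, h3⟩ := x
  apply Subtype.ext
  ext
  exacts [h1.symm, h2.symm, rfl, rfl, rfl, rfl]

theorem card_AN (N : AddSubgroup K) : Nat.card (AN φ N) = Nat.card N * (Nat.card K ^ 2 * Nat.card F ^ 2) := by
  rw [Nat.card_congr (β := N × K × K × F × F) ⟨fun x => (⟨x.1.x1, x.2.2⟩, x.1.x5, x.1.x3, x.1.x2, x.1.x4),
    fun w => ⟨⟨w.1, 0, w.2.1, w.2.2.1, w.2.2.2.1, w.2.2.2.2⟩, rfl, w.1.2⟩,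
    fun x => ?_, fun w => rfl⟩, Nat.card_prod, Nat.card_prod, Nat.card_prod, Nat.card_prod]
  · ring
  obtain ⟨x, h1, h2⟩ := x
  apply Subtype.ext
  ext
  exacts [rfl, Eq.symm h1, rfl, rfl, rfl, rfl]

/-- `c` with `u5 c ∈ E` -/
def CC (E : Subgroup (Sy φ)) : AddSubgroup K where
  carrier := {c | u5 φ c ∈ E}
  zero_mem' := one_mem E
  add_mem' {x y} hx hy := by
    simp only [Set.mem_ofPred_eq] at hx hy ⊢
    rw [u5_add]
    exact mul_mem hx hy
  neg_mem' {x} hx := by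
    simp only [Set.mem_ofPred_eq] at hx ⊢
    have h : u5 φ (-x) = (u5 φ x)⁻¹ := by
      apply eq_inv_of_mul_eq_one_left
      rw [← u5_add, neg_add_cancel]; rfl
    rw [h]
    exact inv_mem hx

theorem mem_CC {E : Subgroup (Sy φ)} {c : K} : c ∈ CC E ↔ u5 φ c ∈ E := Iff.rfl

/-- if `Z3 ≤ E`, elements of `Z4` lie in `E` according to `x5` -/
theorem mem_iff_CC {E : Subgroup (Sy φ)} (h3 : Z3 φ ≤ E) {x : Sy φ} (hx : x ∈ Z4 φ) : x ∈ E ↔ x.x5 ∈ CC E := by
  have h1 : (u5 φ x.x5)⁻¹ * x ∈ Z3 φ := by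
    refine ⟨?_, ?_, ?_⟩
    · rw [mul_x1, inv_x1, hx.1]; simp [u5]
    · rw [mul_x6, inv_x6, hx.2]; simp [u5]
    · rw [mul_x5, inv_x5, hx.2]; simp [u5]
  rw [mem_CC]
  constructor
  · intro h
    have h2 := mul_mem h (inv_mem (h3 h1))
    rwa [mul_inv_rev, inv_inv, mul_inv_cancel_left] at h2
  · intro h
    have h2 := mul_mem h (h3 h1)
    rwa [mul_inv_cancel_left] at h2

theorem ZD_le_iff {E : Subgroup (Sy φ)} (h3 : Z3 φ ≤ E) {D : AddSubgroup K} (hD : D ≤ CC E) : ZD φ D ≤ E :=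
  fun _ hx => (mem_iff_CC h3 ⟨hx.1, hx.2.1⟩).2 (hD hx.2.2)

theorem inf_Z4 {E : Subgroup (Sy φ)} (h3 : Z3 φ ≤ E) : E ⊓ Z4 φ = ZD φ (CC E) := by
  ext x
  constructor
  · rintro ⟨h1, h2⟩
    exact ⟨h2.1, h2.2, (mem_iff_CC h3 h2).1 h1⟩
  · rintro ⟨h1, h2, h4⟩
    exact ⟨(mem_iff_CC h3 ⟨h1, h2⟩).2 h4, h1, h2⟩

/-- an element of `Z3` is determined modulo `Z2` by `x3` -/
theorem mul_inv_mem_Z2 {x y : Sy φ} (hx : x ∈ Z3 φ) (hy : y ∈ Z3 φ) (h : x.x3 = y.x3) : x⁻¹ * y ∈ Z2 φ := by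
  refine ⟨?_, ?_, ?_, ?_⟩
  · rw [mul_x1, inv_x1, hx.1, hy.1]; ring
  · rw [mul_x6, inv_x6, hx.2.1, hy.2.1]; ring
  · rw [mul_x5, inv_x5, hx.2.1, hx.2.2, hy.2.1, hy.2.2]; simp
  · rw [mul_x3, inv_x3, hx.1, hx.2.1, hx.2.2, inv_x1, hx.1, hy.2.1, hy.2.2, h]; simp [cr]

/-- the commutators of `E` lie in `Φ(E)`: `Z1 ≤ Φ(E)` -/
theorem Z1_le {E P : Subgroup (Sy φ)} (hc : Com E E P) (h2 : Z2 φ ≤ E) {e : Sy φ} (he : e ∈ E) (he6 : e.x6 ≠ 0) :
    Z1 φ ≤ P := by
  intro x hx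
  have h1 := hc e he (u2 φ (x.x4 / e.x6)) (h2 (u2_mem _))
  rw [← commutatorElement_def, comm_Z2 (u2_mem _)] at h1
  have h3 : e.x6 * (u2 φ (x.x4 / e.x6)).x2 = x.x4 := by
    show e.x6 * (x.x4 / e.x6) = x.x4
    field_simp
  rw [h3, ← eq_u4 hx] at h1
  exact h1

theorem Z2_le {E P : Subgroup (Sy φ)} (hc : Com E E P) (h3 : Z3 φ ≤ E) {e : Sy φ} (he : e ∈ E) (he6 : e.x6 ≠ 0)
    {y : Sy φ} (hy : y ∈ E) (hy1 : y.x1 ≠ 0) : Z2 φ ≤ P := by
  have h1 := Z1_le hc (Z2_le_Z3.trans h3) he he6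
  intro x hx
  obtain ⟨s, hs⟩ := exists_tr_ne φ
  have h4 := hc y hy (u3 φ ((x.x2 / tr φ s) • (s / y.x1))) (h3 (u3_mem _))
  rw [← commutatorElement_def] at h4
  have h5 : (⁅y, u3 φ ((x.x2 / tr φ s) • (s / y.x1))⁆).x2 = x.x2 := by
    rw [comm_x2' (u3_mem _)]
    show tr φ (y.x1 * ((x.x2 / tr φ s) • (s / y.x1))) = x.x2
    rw [mul_smul_comm, mul_div_cancel₀ _ hy1, tr_smul, div_mul_cancel₀ _ hs]
  have h6 := comm_mem_Z2 (x := y) (u3_mem (φ := φ) ((x.x2 / tr φ s) • (s / y.x1)))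
  obtain ⟨z, hz⟩ : ∃ z, z = ⁅y, u3 φ ((x.x2 / tr φ s) • (s / y.x1))⁆ := ⟨_, rfl⟩
  rw [← hz] at h4 h5 h6
  have h7 : z⁻¹ * x ∈ Z1 φ := by
    refine ⟨?_, ?_, ?_, ?_, ?_⟩
    · rw [mul_x1, inv_x1, h6.1, hx.1]; ring
    · rw [mul_x6, inv_x6, h6.2.1, hx.2.1]; ring
    · rw [mul_x5, inv_x5, h6.2.2.1, hx.2.2.1, hx.2.1, h6.1]; simp
    · rw [mul_x3, inv_x3, h6.2.2.2, hx.2.2.2, hx.2.1, hx.2.2.1, h6.1, h6.2.1]; simp [cr]
    · rw [mul_x2, inv_x2, h5, hx.2.2.2, hx.2.1, hx.2.2.1, h6.1, h6.2.1]; simp [tr_zero, sh]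
  have h8 := mul_mem h4 (h1 h7)
  rwa [mul_inv_cancel_left] at h8

end Box

section Main

variable {F K : Type u} [Field F] [Field K] [Finite F] [Finite K] [Algebra F K] {φ : K ≃ₐ[F] K} [Cub φ] [CharP K 2]
    {E : Subgroup (Sy φ)} {Γ : Subgroup (MulAut E)}

theorem two_zero : (2 : K) = 0 := CharTwo.two_eq_zero

theorem two_le_F (F : Type u) [Field F] [Finite F] : 2 ≤ Nat.card F := Finite.one_lt_card

/-- `F a ≤ C` -/
theorem line_le (hphi : StPhi.{u}) (hch : StCh.{u}) (hE : Ess ⊤ E 2 Γ) (h2 : Z2 φ ≤ Phi E) {a : K}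
    (hx1 : ∀ x ∈ E, x.x1 = 0 ∨ x.x1 = a) (h3 : Z3 φ ≤ E) (s : F) : s • a ∈ CC E := by
  have hfin : Finite E := inferInstance
  have hpE : IsPGroup 2 E := hE.pgr.to_le le_top
  obtain ⟨hp1, hp2, hp3, hp4, hp5, hp6⟩ := hphi E 2 Nat.prime_two hfin hpE
  let D : AddSubgroup K := (Submodule.span F {a}).toAddSubgroup
  have h : ZD φ D ≤ E := by
    refine hch hE 1 (fun i => if i = 0 then Phi E else E) le_rfl rfl ?_ ?_ (ZD φ D) le_top ?_
    · intro i hi
      by_cases h0 : i = 0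
      · simp only [h0, if_true]
        exact hp5 Γ
      · simp only [h0, if_false]
        exact ⟨le_rfl, fun γ _ e _ => (γ e).2⟩
    · intro i hi
      have h0 : i = 0 := by omega
      simp only [h0, if_true]
      exact hp1
    · intro i hi
      have h0 : i = 0 := by omega
      simp only [h0, if_true]
      intro x hx e he
      have h5 : ⁅e, x⁆ ∈ Z2 φ := by
        refine ⟨comm_x1 _ _, comm_x6 _ _, ?_, ?_⟩
        · rw [comm_x5, hx.1, hx.2.1]; simp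
        · rw [comm_x3 ⟨hx.1, hx.2.1⟩]
          obtain ⟨t, ht⟩ := Submodule.mem_span_singleton.1 hx.2.2
          rw [← ht]
          rcases hx1 e he with h6 | h6
          · rw [h6, cr_zero_left]
          · rw [h6, cr_smul_self_two φ two_zero]
      have h6 := inv_mem (h2 h5)
      rw [commutatorElement_inv, commutatorElement_def] at h6
      exact h6
  have h7 : u5 φ (s • a) ∈ ZD φ D := ⟨rfl, rfl, Submodule.mem_span_singleton.2 ⟨s, rfl⟩⟩
  exact h h7

theorem card_mul_relIndex' {Ω : Type*} [Group Ω] {H L : Subgroup Ω} (h : H ≤ L) :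
    Nat.card H * H.relIndex L = Nat.card L := by
  rw [← Subgroup.relIndex_bot_left H, Subgroup.relIndex_mul_relIndex _ _ _ bot_le h, Subgroup.relIndex_bot_left]

omit [Finite F] [Finite K] [CharP K 2] in
theorem cr_plane [Finite F] [Finite K] [CharP K 2] {N : Submodule F K} (hN : N ≠ ⊤) {a : K} (ha : a ≠ 0) (haN : a ∈ N)
    {n d : K} (hn : n ∈ N) (hd : d ∈ N) : ∃ c ∈ N, cr φ n d = cr φ a c := by
  have hdep : ¬ LinearIndependent F ![a, n, d] := by
    intro hli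
    have h := hli.span_eq_top_of_card_eq_finrank' (by rw [finrank_three φ]; rfl)
    apply hN
    rw [eq_top_iff, ← h, Submodule.span_le]
    rintro _ ⟨i, rfl⟩
    fin_cases i
    · exact haN
    · exact hn
    · exact hd
  rw [Fintype.not_linearIndependent_iff] at hdep
  obtain ⟨g, hg, i, hi⟩ := hdep
  rw [Fin.sum_univ_three] at hg
  have hg' : g 0 • a + g 1 • n + g 2 • d = 0 := hg
  by_cases h2 : g 2 = 0
  · rw [h2, zero_smul, add_zero] at hg'
    by_cases h1 : g 1 = 0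
    · rw [h1, zero_smul, add_zero, smul_eq_zero] at hg'
      have h0 := hg'.resolve_right ha
      exfalso
      fin_cases i
      · exact hi h0
      · exact hi h1
      · exact hi h2
    · have h5 : n = (-(g 0 / g 1)) • a := by
        have h6 : g 1 • n = g 1 • ((-(g 0 / g 1)) • a) := by
          rw [smul_smul, mul_neg, mul_div_cancel₀ _ h1, neg_smul]
          exact eq_neg_of_add_eq_zero_right hg'
        exact smul_right_injective K h1 h6
      refine ⟨(-(g 0 / g 1)) • d, N.smul_mem _ hd, ?_⟩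
      rw [h5, cr_smul_left, cr_smul_right]
  · have h5 : d = (-(g 0 / g 2)) • a + (-(g 1 / g 2)) • n := by
      have h6 : g 2 • d = g 2 • ((-(g 0 / g 2)) • a + (-(g 1 / g 2)) • n) := by
        rw [smul_add, smul_smul, smul_smul, mul_neg, mul_neg, mul_div_cancel₀ _ h2, mul_div_cancel₀ _ h2, neg_smul,
          neg_smul, ← neg_add]
        exact eq_neg_of_add_eq_zero_right hg'
      exact smul_right_injective K h2 h6
    refine ⟨(-(g 0 / g 2)) • n, N.smul_mem _ hn, ?_⟩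
    rw [h5, cr_add_right, cr_smul_right, cr_smul_right, cr_self, two_zero, zero_mul, smul_zero, add_zero,
      cr_smul_right, cr_comm φ a n]

theorem stM3d (hphi : StPhi.{u}) (hp2w : StP2w.{u}) (hch : StCh.{u}) : StM3d.{u} := by
  intro F K _ _ _ _ _ φ _ _ E Γ hE hm h3 a ha hx1 hy
  by_contra h4
  obtain ⟨y, hyE, hy1, hy6⟩ := hy
  obtain ⟨hp1, hp2, hp3, hp4, hp5, hp6⟩ := hphi E 2 Nat.prime_two inferInstance (hE.pgr.to_le le_top)
  obtain ⟨e, heE, he6⟩ := SetLike.not_le_iff_exists.1 hm.2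
  have he6' : e.x6 ≠ 0 := he6
  have hZ2 : Z2 φ ≤ Phi E := Z2_le hp2 h3 heE he6' hyE (by rw [hy1]; exact ha)
  have hZ1 : Z1 φ ≤ Phi E := Z1_le_Z2.trans hZ2
  have hline := line_le hphi hch hE hZ2 hx1 h3
  -- `Q1` normalizes `E`
  have hQ : Com (Q1 φ) E E := by
    intro x hx z hz
    rw [← commutatorElement_def, mem_iff_CC h3 (comm_mem_Z4 x z), comm_x5]
    have hx' : x.x1 = 0 := hx
    rw [hx', smul_zero, zero_sub]
    apply neg_mem
    rcases hx1 z hz with h | h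
    · rw [h, smul_zero]; exact zero_mem _
    · rw [h]; exact hline _
  have hQN := le_norm hQ
  have hQE : ¬ Q1 φ ≤ E := fun h => h4 (Z4_le_Q1.trans h)
  have hi : (E ⊓ Q1 φ).relIndex E ≤ 2 := by
    refine relIndex_le_two fun x hx z hz hxn hzn => ?_
    have hx' : x.x1 = a := (hx1 x hx).resolve_left fun h => hxn ⟨hx, h⟩
    have hz' : z.x1 = a := (hx1 z hz).resolve_left fun h => hzn ⟨hz, h⟩
    refine ⟨mul_mem hx hz, ?_⟩
    show (x * z).x1 = 0
    rw [mul_x1, hx', hz', CharTwo.add_self_eq_zero]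
  have hi2 : (E ⊓ Z4 φ).relIndex (E ⊓ Q2 φ) ≤ 2 := by
    refine relIndex_le_two fun x hx z hz hxn hzn => ?_
    have hx' : x.x1 = a := (hx1 x hx.1).resolve_left fun h => hxn ⟨hx.1, h, hx.2⟩
    have hz' : z.x1 = a := (hx1 z hz.1).resolve_left fun h => hzn ⟨hz.1, h, hz.2⟩
    refine ⟨mul_mem hx.1 hz.1, ?_, mul_mem hx.2 hz.2⟩
    show (x * z).x1 = 0
    rw [mul_x1, hx', hz', CharTwo.add_self_eq_zero]
  have hcom : Com (Q1 φ) (E ⊓ Q1 φ) (Phi E) := by
    intro x hx z hz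
    rw [← commutatorElement_def, comm_Q1 hx hz.2]
    exact hZ1 (u4_mem _)
  have hr : E.relIndex (Q1 φ) ≤ 2 := by
    have := hp2w hE (Q1 φ) (Q1 φ) (E ⊓ Q1 φ) (E ⊓ Q1 φ) hQN hQN hQE inf_le_left inf_le_left hcom hcom
    nlinarith
  -- `C` has index two
  have hC : ∀ c c' : K, c ∉ CC E → c' ∉ CC E → c + c' ∈ CC E := by
    intro c c' hc hc'
    rw [mem_CC, u5_add]
    exact mul_mem_of_relIndex hr (Z4_le_Q1 (u5_mem c)) (Z4_le_Q1 (u5_mem c')) hc hc'
  obtain ⟨c0, hc0⟩ : ∃ c0, c0 ∉ CC E := by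
    by_contra hcon
    push Not at hcon
    exact h4 fun x hx => (mem_iff_CC h3 hx).2 (hcon _)
  let N : Submodule F K :=
    { carrier := {n | ∀ u : F, u • n ∈ CC E}
      zero_mem' := fun u => by rw [smul_zero]; exact zero_mem _
      add_mem' := fun {x y} hx hy u => by rw [smul_add]; exact add_mem (hx u) (hy u)
      smul_mem' := fun s x hx u => by rw [smul_smul]; exact hx _ }
  have hN : ∀ n : K, n ∈ N ↔ ∀ u : F, u • n ∈ CC E := fun _ => Iff.rfl
  have haN : a ∈ N := hline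
  have hNC : N.toAddSubgroup ≤ CC E := fun n hn => by
    have := (hN n).1 hn 1
    rwa [one_smul] at this
  have hNtop : N ≠ ⊤ := fun h => hc0 (hNC (by
    show c0 ∈ N
    rw [h]; exact Submodule.mem_top))
  have hcardN := card_le_mul (CC E) hC N hN
  -- `Φ(E)` contains the elements of `Z3` with `x3 ∈ a × C`
  have hP : ∀ x ∈ Z3 φ, ∀ c ∈ CC E, x.x3 = cr φ a c → x ∈ Phi E := by
    intro x hx c hc hxc
    have h5 := hp2 y hyE (u5 φ c) hc
    rw [← commutatorElement_def] at h5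
    have h6 : (⁅y, u5 φ c⁆).x3 = x.x3 := by rw [comm_x3 (u5_mem c), hy1, hxc]; rfl
    have h7 := mul_inv_mem_Z2 (comm_mem_Z3 (x := y) (u5_mem c)) hx h6
    have h8 := mul_mem h5 (hZ2 h7)
    rwa [mul_inv_cancel_left] at h8
  have hA : Com (AN φ N.toAddSubgroup) E E := by
    intro x hx z hz
    rw [← commutatorElement_def, mem_iff_CC h3 (comm_mem_Z4 x z), comm_x5, hx.1, zero_smul, sub_zero]
    exact hx.2 z.x6
  have hX : Com (AN φ N.toAddSubgroup) (ZD φ N.toAddSubgroup) (Phi E) := by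
    intro x hx z hz
    rw [← commutatorElement_def]
    obtain ⟨c, hc, hxc⟩ := cr_plane (φ := φ) hNtop ha haN (n := x.x1) (d := z.x5) hx.2 hz.2.2
    refine hP _ (comm_mem_Z3 ⟨hz.1, hz.2.1⟩) c (hNC hc) ?_
    rw [comm_x3 ⟨hz.1, hz.2.1⟩, hxc]
  have key := hp2w hE (AN φ N.toAddSubgroup) (Q1 φ) (ZD φ N.toAddSubgroup) (E ⊓ Q1 φ) (le_norm hA) hQN hQE
    (ZD_le_iff h3 hNC) inf_le_left hX hcom
  -- numbers
  have hq := two_le_F F
  have hk := card_K φ
  have e1 := card_mul_relIndex' (ZD_le_iff h3 hNC)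
  have e2 := card_mul_relIndex' (inf_le_left : E ⊓ Z4 φ ≤ E)
  have e3 : (E ⊓ Z4 φ).relIndex E ≤ 2 * Nat.card F := by
    have h5 : E ⊓ Z4 φ = (E ⊓ Q1 φ) ⊓ (E ⊓ Q2 φ) := by
      rw [← Q1_inf_Q2, inf_inf_distrib_left]
    have h6 : (E ⊓ Q2 φ).relIndex E ≤ Nat.card F := by
      rw [Subgroup.inf_relIndex_left, ← index_Q2 (φ := φ)]
      exact Nat.le_of_dvd (Nat.pos_of_ne_zero Subgroup.index_ne_zero_of_finite)
        (Subgroup.relIndex_dvd_index_of_normal _ _)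
    rw [h5]
    exact (Subgroup.relIndex_inf_le).trans (Nat.mul_le_mul hi h6)
  have e4 : Nat.card (E ⊓ Z4 φ : Subgroup (Sy φ)) = Nat.card (CC E) * (Nat.card K * Nat.card F ^ 2) := by
    rw [inf_Z4 h3, card_ZD]
  have e5 : 2 * Nat.card (CC E) ≤ Nat.card K := by
    have h5 : Nat.card (CC E) * (CC E).index = Nat.card K := AddSubgroup.card_mul_index _
    have h6 : (CC E).index ≠ 1 := fun h => hc0 (by
      rw [AddSubgroup.index_eq_one.1 h]; exact AddSubgroup.mem_top _)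
    have h7 : (CC E).index ≠ 0 := AddSubgroup.index_ne_zero_of_finite
    have h8 : 2 ≤ (CC E).index := by omega
    rw [← h5, mul_comm]
    exact Nat.mul_le_mul le_rfl h8
  have e6 := card_mul_relIndex' (inf_le_right : E ⊓ AN φ N.toAddSubgroup ≤ AN φ N.toAddSubgroup)
  rw [Subgroup.inf_relIndex_right, card_AN] at e6
  have e7 : Nat.card (E ⊓ AN φ N.toAddSubgroup : Subgroup (Sy φ)) ≤ Nat.card (E ⊓ Z4 φ : Subgroup (Sy φ)) * 2 := by
    have h5 : E ⊓ AN φ N.toAddSubgroup ≤ E ⊓ Q2 φ := inf_le_inf_left _ fun x hx => hx.1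
    have h6 := Nat.card_le_card_of_injective _ (Subgroup.inclusion_injective h5)
    have h7 := card_mul_relIndex' (inf_le_inf_left E Z4_le_Q2 : E ⊓ Z4 φ ≤ E ⊓ Q2 φ)
    calc _ ≤ _ := h6
      _ = _ := h7.symm
      _ ≤ _ := Nat.mul_le_mul le_rfl hi2
  rw [card_ZD] at e1
  have eN : Nat.card N.toAddSubgroup = Nat.card N := rfl
  rw [eN] at e1 e6
  generalize Nat.card F = q at *
  generalize Nat.card K = k at *
  generalize Nat.card N = n at *
  generalize Nat.card (CC E) = c at *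
  generalize Nat.card (E ⊓ Z4 φ : Subgroup (Sy φ)) = z at *
  generalize (E ⊓ Z4 φ).relIndex E = z' at *
  generalize E.relIndex (AN φ N.toAddSubgroup) = r at *
  generalize (ZD φ N.toAddSubgroup).relIndex E = i at *
  generalize (E ⊓ Q1 φ).relIndex E = j at *
  generalize Nat.card (E ⊓ AN φ N.toAddSubgroup : Subgroup (Sy φ)) = w at *
  have hkq : 0 < k * q ^ 2 := by rw [hk]; positivity
  have f1 : n * i ≤ k * q := by
    have h5 : (n * i) * (k * q ^ 2) ≤ (k * q) * (k * q ^ 2) := by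
      calc (n * i) * (k * q ^ 2) = n * (k * q ^ 2) * i := by ring
        _ = z * z' := by rw [e1, e2]
        _ ≤ (c * (k * q ^ 2)) * (2 * q) := by rw [e4]; exact Nat.mul_le_mul le_rfl e3
        _ = (2 * c) * q * (k * q ^ 2) := by ring
        _ ≤ k * q * (k * q ^ 2) := Nat.mul_le_mul (Nat.mul_le_mul e5 le_rfl) le_rfl
    exact Nat.le_of_mul_le_mul_right h5 hkq
  have f2 : n ≤ r := by
    have h5 : n * (k ^ 2 * q ^ 2) ≤ r * (k ^ 2 * q ^ 2) := by
      calc n * (k ^ 2 * q ^ 2) = w * r := e6.symm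
        _ ≤ (z * 2) * r := Nat.mul_le_mul e7 le_rfl
        _ = (2 * c) * (k * q ^ 2) * r := by rw [e4]; ring
        _ ≤ k * (k * q ^ 2) * r := Nat.mul_le_mul (Nat.mul_le_mul e5 le_rfl) le_rfl
        _ = r * (k ^ 2 * q ^ 2) := by ring
    refine Nat.le_of_mul_le_mul_right h5 ?_
    have : 0 < k := Nat.pos_of_mul_pos_right hkq |> fun _ => by rw [hk]; positivity
    positivity
  have f3 : n ^ 3 ≤ 2 * (k * q) := by
    calc n ^ 3 = n ^ 2 * n := by ring
      _ ≤ r ^ 2 * n := Nat.mul_le_mul (Nat.pow_le_pow_left f2 2) le_rfl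
      _ ≤ (i * j) * n := Nat.mul_le_mul key le_rfl
      _ ≤ (i * 2) * n := Nat.mul_le_mul (Nat.mul_le_mul le_rfl hi) le_rfl
      _ = 2 * (n * i) := by ring
      _ ≤ 2 * (k * q) := Nat.mul_le_mul le_rfl f1
  have f4 : q ^ 2 ≤ n := by
    have h5 : q ^ 2 * q ≤ n * q := by
      calc q ^ 2 * q = q ^ 3 := by ring
        _ ≤ n * q := by rw [← hk]; exact hcardN
    exact Nat.le_of_mul_le_mul_right h5 (by omega)
  have f5 : q ^ 6 ≤ 2 * q ^ 4 := by
    calc q ^ 6 = (q ^ 2) ^ 3 := by ring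
      _ ≤ n ^ 3 := Nat.pow_le_pow_left f4 3
      _ ≤ 2 * (k * q) := f3
      _ = 2 * q ^ 4 := by rw [hk]; ring
  have f6 : 0 < q ^ 4 := by positivity
  have f7 : q ^ 4 * 4 ≤ q ^ 6 := by
    calc q ^ 4 * 4 ≤ q ^ 4 * q ^ 2 := Nat.mul_le_mul le_rfl (by nlinarith)
      _ = q ^ 6 := by ring
  omega

end Main

end Cfsg.Agent.H807.TE
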